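import Cfsg.Agent.ONanAct.Sub.M11Checks
import Cfsg.Agent.ONanAct.Sub.J1Checks

/-!
The O'Nan group as a permutation group of degree 122760 with subgroups `J₁` and `M₁₁`, given the
bound on the order of the presented group.
-/

set_option autoImplicit false
set_option linter.style.haveILetI false

namespace CfsgLib.ONanAct

open CfsgLib.CosetEnum

variable [Finite Cfsg.Spor.ON] (hle : Nat.card Cfsg.Spor.ON ≤ 460815505920)
include hle

theorem exists_J1 : ∃ K : Subgroup Cfsg.Spor.ON, Cfsg.IsJ1 K := by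
  refine ⟨Sub.J1.data.K, Sub.isSimple_K hle Sub.J1.checks Sub.J1.simpleData Sub.J1.simple_ok
    (show Nat.Prime 19 by norm_num) (show ¬ 19 * 19 ∣ 114 * 1540 by norm_num)
    (show 1 < 114 * 1540 by norm_num) ?_ ?_, ?_⟩
  · intro Y hY
    simp only [Sub.J1.simpleData, List.mem_cons, List.not_mem_nil, or_false] at hY
    rcases hY with rfl | rfl | rfl | rfl | rfl | rfl <;>
      refine ⟨by norm_num, ?_, ?_⟩ <;>
        rw [show Sub.J1.data.m * Sub.J1.data.n = 175560 from rfl] <;> norm_num
  · intro p hp hd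
    have hd' : p ∣ 2 ^ 3 * (3 * (5 * (7 * (11 * 19)))) := hd.trans (show 114 * 1540 ∣ _ by norm_num)
    simp only [hp.dvd_mul] at hd'
    have hq : p = 2 ∨ p = 3 ∨ p = 5 ∨ p = 7 ∨ p = 11 ∨ p = 19 := by
      rcases hd' with h | h | h | h | h | h
      · exact Or.inl ((Nat.prime_dvd_prime_iff_eq hp Nat.prime_two).mp (hp.dvd_of_dvd_pow h))
      all_goals
        have := (Nat.prime_dvd_prime_iff_eq hp (by norm_num)).mp h
        omega
    rcases hq with rfl | rfl | rfl | rfl | rfl | rfl <;> simp [Sub.J1.simpleData]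
  · rw [Sub.card_K hle Sub.J1.checks]
    rfl

theorem exists_M11 : ∃ K : Subgroup Cfsg.Spor.ON, Cfsg.IsM11 K := by
  refine ⟨Sub.M11.data.K, Sub.isSimple_K hle Sub.M11.checks Sub.M11.simpleData Sub.M11.simple_ok
    (show Nat.Prime 11 by norm_num) (show ¬ 11 * 11 ∣ 48 * 165 by norm_num)
    (show 1 < 48 * 165 by norm_num) ?_ ?_, ?_⟩
  · intro Y hY
    simp only [Sub.M11.simpleData, List.mem_cons, List.not_mem_nil, or_false] at hY
    rcases hY with rfl | rfl | rfl | rfl <;>
      refine ⟨by norm_num, ?_, ?_⟩ <;>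
        rw [show Sub.M11.data.m * Sub.M11.data.n = 7920 from rfl] <;> norm_num
  · intro p hp hd
    have hd' : p ∣ 2 ^ 4 * (3 ^ 2 * (5 * 11)) := hd.trans (show 48 * 165 ∣ _ by norm_num)
    simp only [hp.dvd_mul] at hd'
    have hq : p = 2 ∨ p = 3 ∨ p = 5 ∨ p = 11 := by
      rcases hd' with h | h | h | h
      · exact Or.inl ((Nat.prime_dvd_prime_iff_eq hp Nat.prime_two).mp (hp.dvd_of_dvd_pow h))
      · exact Or.inr (Or.inl ((Nat.prime_dvd_prime_iff_eq hp Nat.prime_three).mp (hp.dvd_of_dvd_pow h)))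
      all_goals
        have := (Nat.prime_dvd_prime_iff_eq hp (by norm_num)).mp h
        omega
    rcases hq with rfl | rfl | rfl | rfl <;> simp [Sub.M11.simpleData]
  · rw [Sub.card_K hle Sub.M11.checks]
    rfl

/-- The realisation as a permutation group. -/
theorem realization : ∃ H : Subgroup (Equiv.Perm (Fin 122760)), Cfsg.IsON H ∧
    MulAction.IsPretransitive H (Fin 122760) ∧
    Nat.card (MulAction.stabilizer H (0 : Fin 122760)) = 3753792 ∧
    (∃ K : Subgroup H, Cfsg.IsJ1 K) ∧ (∃ K : Subgroup H, Cfsg.IsM11 K) := by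
  let e : Cfsg.Spor.ON ≃* act.range := MonoidHom.ofInjective (act_injective hle)
  have hc : Nat.card act.range = 460815505920 :=
    (Nat.card_congr e.toEquiv).symm.trans (card_eq hle)
  haveI := (isON hle).1
  haveI : Nontrivial act.range := e.symm.toEquiv.nontrivial
  refine ⟨act.range, ⟨IsSimpleGroup.isSimpleGroup_of_surjective e.toMonoidHom e.surjective, hc⟩,
    isPretransitive_range, ?_, ?_, ?_⟩
  · have h := card_range_eq.1
    rw [hc] at h
    show Nat.card fix0 = 3753792
    omega
  · obtain ⟨K, hs, hk⟩ := exists_J1 hle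
    let eK := K.equivMapOfInjective e.toMonoidHom e.injective
    haveI := hs
    haveI : Nontrivial (K.map e.toMonoidHom) := eK.symm.toEquiv.nontrivial
    exact ⟨K.map e.toMonoidHom,
      IsSimpleGroup.isSimpleGroup_of_surjective eK.toMonoidHom eK.surjective,
      (Nat.card_congr eK.toEquiv).symm.trans hk⟩
  · obtain ⟨K, hs, hk⟩ := exists_M11 hle
    let eK := K.equivMapOfInjective e.toMonoidHom e.injective
    haveI := hs
    haveI : Nontrivial (K.map e.toMonoidHom) := eK.symm.toEquiv.nontrivial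
    exact ⟨K.map e.toMonoidHom,
      IsSimpleGroup.isSimpleGroup_of_surjective eK.toMonoidHom eK.surjective,
      (Nat.card_congr eK.toEquiv).symm.trans hk⟩

end CfsgLib.ONanAct
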