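import Cfsg.Agent.CosetEnum.Engine

/-! Each letter of the O'Nan group as a product of two elements of order 31 (generated data). -/

set_option autoImplicit false

namespace CfsgLib.ONanAct

/-- The pairs of words. -/
def prodPairs : List (List ℕ × List ℕ) := [
  ([1, 0, 6, 1, 4, 7, 2, 3, 2, 1, 4, 3], [1, 3, 2, 4, 3, 2, 1, 0, 6, 1, 0, 4, 7]),
  ([0, 1, 0, 2, 1, 0, 6, 1, 0, 2, 1, 0, 3, 2, 4, 5], [0, 5, 2, 1, 0, 4, 3, 2, 1, 5, 6, 1, 2, 1, 0]),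
  ([5, 6, 4, 3, 2, 1, 6, 2, 6], [2, 1, 0, 6, 1, 2, 6, 3, 4, 6, 2]),
  ([1, 3, 2, 1, 0, 3, 4, 3, 5, 4, 6, 1, 4, 7, 3, 4, 7], [0, 1, 3, 4, 5, 6, 1, 4, 3, 2, 1, 6, 4, 7]),
  ([0, 2, 3, 4, 3, 2, 1, 0, 3, 6, 4, 6, 3], [5, 1, 0, 3, 6, 4, 7, 3, 2, 4, 3, 2]),
  ([1, 3, 2, 3, 2, 4, 3, 2, 6, 4, 6, 3, 2, 3, 4, 3, 5], [0, 5, 4, 6, 4, 3, 7, 2, 3, 4, 7, 1]),
  ([0, 5, 1, 2, 1, 6, 1, 0, 2, 3, 2, 4, 3, 6], [0, 3, 2, 3, 1, 3, 4, 6, 1, 0, 4, 7, 3, 2, 1, 7, 2]),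
  ([0, 3, 4, 6, 4, 3, 2, 6, 1, 3, 2, 3, 4, 6, 2], [0, 5, 2, 4, 3, 5, 6, 3, 4, 3, 2, 1, 3, 7, 2, 3, 4, 3])]

end CfsgLib.ONanAct
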