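import Cfsg.Agent.ONanAct.Lower
import Cfsg.Agent.ONanAct.SimpleData
import Cfsg.Prelude.Def_Sporadic

/-!
Simplicity of the presented O'Nan group, given the bound on its order: the action is primitive by
the lengths of the five suborbits, and each letter is a product of two elements of order 31.
-/

set_option autoImplicit false
set_option Elab.async false
set_option maxRecDepth 100000
set_option linter.style.haveILetI false
set_option linter.constructorNameAsVariable false

namespace CfsgLib.ONanAct

open CfsgLib.CosetEnum Cfsg.Spor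

/-- A point in `(lo, hi)` has a neighbour under `a, …, f` which is smaller and at least `lo`. -/
noncomputable def okDownI (lo hi i : ℕ) : Bool :=
  bif Nat.blt lo i && Nat.blt i hi then
    List.any [0, 1, 2, 3, 4, 5] fun x =>
      force (img x i) fun j => Nat.ble lo j && Nat.blt j i
  else true

theorem down2 : allR (okDownI 58654 110790) 16 58654 = true := by decide +kernel

theorem down3 : allR (okDownI 110790 116376) 13 110790 = true := by decide +kernel

theorem down4 : allR (okDownI 116376 122760) 13 116376 = true := by decide +kernel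

theorem down1 : allR (okDownI 1 58654) 16 1 = true := by decide +kernel

/-- An interval checked by `okDownI` is one orbit of the elements fixing `0`. -/
theorem exists_fix_zero {lo hi d : ℕ} (hchk : allR (okDownI lo hi) d lo = true)
    (hd : hi ≤ lo + 2 ^ d) (hhi : hi ≤ 122760) :
    ∀ (n : ℕ) (h1 : lo ≤ n) (h2 : n < hi),
      ∃ z, act z 0 = 0 ∧ act z ⟨lo, by omega⟩ = (⟨n, by omega⟩ : Fin 122760) := by
  intro n
  induction n using Nat.strong_induction_on with
  | _ n ih =>
    intro h1 h2
    by_cases h0 : n = lo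
    · subst h0; exact ⟨1, by rw [map_one act]; rfl, by rw [map_one act]; rfl⟩
    have h := allR_spec d lo hchk n h1 (by omega)
    have hb : (Nat.blt lo n && Nat.blt n hi) = true := by
      simp only [Bool.and_eq_true, Nat.blt_eq]
      exact ⟨by omega, h2⟩
    rw [okDownI, hb, cond_true, List.any_eq_true] at h
    obtain ⟨x, hx, h⟩ := h
    rw [force_eq, Bool.and_eq_true] at h
    have hlt : img x n < n := Nat.le_of_ble_eq_true h.2
    have hx6 : x < 6 := by simp at hx; omega
    obtain ⟨z, hz0, hz1⟩ := ih (img x n) hlt (Nat.le_of_ble_eq_true h.1) (lt_trans hlt h2)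
    refine ⟨gen x * z, by rw [map_mul, Equiv.Perm.mul_apply, hz0, act_fix_zero x hx6], ?_⟩
    have e : (act (gen x))⁻¹ ⟨n, by omega⟩ = (⟨img x n, by omega⟩ : Fin 122760) :=
      Fin.ext (by
        have h := act_word [x] (fun y hy => by rw [List.mem_singleton] at hy; omega) ⟨n, by omega⟩
        rw [prodw, List.map_singleton, List.prod_singleton, walk_cons, walk_nil] at h
        exact h)
    rw [map_mul, Equiv.Perm.mul_apply, hz1, ← e, Equiv.Perm.inv_def, Equiv.apply_symm_apply]

/-- A set of the five suborbits whose size divides the degree is `{0}` or everything. -/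
theorem suborbit_arith : ∀ b1 b2 b3 b4 : Bool,
    1 + (cond b1 58653 0) + (cond b2 52136 0) + (cond b3 5586 0) + (cond b4 6384 0) ∣ 122760 →
      (b1 = false ∧ b2 = false ∧ b3 = false ∧ b4 = false) ∨
      (b1 = true ∧ b2 = true ∧ b3 = true ∧ b4 = true) := by
  decide +kernel

/-- A set of points containing `0`, closed under the elements fixing `0`, of size dividing the
degree, is `{0}` or everything. -/
theorem eq_singleton_or_univ (B : Set (Fin 122760)) (h0 : (0 : Fin 122760) ∈ B)
    (hinv : ∀ z, act z 0 = 0 → ∀ p ∈ B, act z p ∈ B) (hdvd : B.ncard ∣ 122760) :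
    B = {0} ∨ B = Set.univ := by
  classical
  have key : ∀ (lo hi d : ℕ), allR (okDownI lo hi) d lo = true → hi ≤ lo + 2 ^ d →
      (hhi : hi ≤ 122760) → ∀ (hlo : lo < hi) (p : Fin 122760), lo ≤ p.val → p.val < hi →
      (p ∈ B ↔ (⟨lo, lt_of_lt_of_le hlo hhi⟩ : Fin 122760) ∈ B) := by
    intro lo hi d hchk hd hhi hlo p hp1 hp2
    obtain ⟨z, hz0, hz⟩ := exists_fix_zero hchk hd hhi p.val hp1 hp2
    constructor
    · intro hp
      have h' : act z⁻¹ 0 = 0 := by
        rw [map_inv, Equiv.Perm.inv_eq_iff_eq, hz0]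
      have := hinv z⁻¹ h' p hp
      rwa [map_inv, show (p : Fin 122760) = ⟨p.val, p.isLt⟩ from rfl, ← hz, Equiv.Perm.inv_def,
        Equiv.symm_apply_apply] at this
    · intro hp
      have := hinv z hz0 _ hp
      rwa [hz] at this
  have k1 := key 1 58654 16 down1 (by norm_num) (by norm_num) (by norm_num)
  have k2 := key 58654 110790 16 down2 (by norm_num) (by norm_num) (by norm_num)
  have k3 := key 110790 116376 13 down3 (by norm_num) (by norm_num) (by norm_num)
  have k4 := key 116376 122760 13 down4 (by norm_num) (by norm_num) (by norm_num)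
  let b1 := decide ((⟨1, by norm_num⟩ : Fin 122760) ∈ B)
  let b2 := decide ((⟨58654, by norm_num⟩ : Fin 122760) ∈ B)
  let b3 := decide ((⟨110790, by norm_num⟩ : Fin 122760) ∈ B)
  let b4 := decide ((⟨116376, by norm_num⟩ : Fin 122760) ∈ B)
  let U : Finset ℕ := (((({0} : Finset ℕ) ∪ (if b1 = true then Finset.Ico 1 58654 else ∅)) ∪
    (if b2 = true then Finset.Ico 58654 110790 else ∅)) ∪
    (if b3 = true then Finset.Ico 110790 116376 else ∅)) ∪
    (if b4 = true then Finset.Ico 116376 122760 else ∅)
  have hU : Fin.val '' B = (U : Set ℕ) := by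
    ext n
    simp only [Set.mem_image, U, Finset.coe_union, Set.mem_union, Finset.mem_coe,
      Finset.mem_singleton]
    have hif : ∀ (P : Prop) [Decidable P] (lo hi : ℕ),
        n ∈ (if P then Finset.Ico lo hi else ∅) ↔ P ∧ lo ≤ n ∧ n < hi := by
      intro P _ lo hi
      by_cases hP : P <;> simp [hP]
    simp only [hif]
    simp only [b1, b2, b3, b4, decide_eq_true_eq]
    constructor
    · rintro ⟨p, hp, rfl⟩
      by_cases c0 : p.val = 0
      · exact Or.inl (Or.inl (Or.inl (Or.inl c0)))
      by_cases c1 : p.val < 58654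
      · exact Or.inl (Or.inl (Or.inl (Or.inr ⟨(k1 p (by omega) c1).mp hp, by omega, c1⟩)))
      by_cases c2 : p.val < 110790
      · exact Or.inl (Or.inl (Or.inr ⟨(k2 p (by omega) c2).mp hp, by omega, c2⟩))
      by_cases c3 : p.val < 116376
      · exact Or.inl (Or.inr ⟨(k3 p (by omega) c3).mp hp, by omega, c3⟩)
      exact Or.inr ⟨(k4 p (by omega) p.isLt).mp hp, by omega, p.isLt⟩
    · rintro ((((h | ⟨hb, h1, h2⟩) | ⟨hb, h1, h2⟩) | ⟨hb, h1, h2⟩) | ⟨hb, h1, h2⟩)
      · exact ⟨0, h0, h.symm⟩
      · exact ⟨⟨n, by omega⟩, (k1 ⟨n, by omega⟩ h1 h2).mpr hb, rfl⟩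
      · exact ⟨⟨n, by omega⟩, (k2 ⟨n, by omega⟩ h1 h2).mpr hb, rfl⟩
      · exact ⟨⟨n, by omega⟩, (k3 ⟨n, by omega⟩ h1 h2).mpr hb, rfl⟩
      · exact ⟨⟨n, by omega⟩, (k4 ⟨n, by omega⟩ h1 h2).mpr hb, rfl⟩
  have hcard : B.ncard =
      1 + (cond b1 58653 0) + (cond b2 52136 0) + (cond b3 5586 0) + (cond b4 6384 0) := by
    rw [← Set.ncard_image_of_injective B Fin.val_injective, hU, Set.ncard_coe_finset]
    have hc : ∀ (b : Bool) (lo hi : ℕ), (if b = true then Finset.Ico lo hi else ∅).card =
        cond b (hi - lo) 0 := by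
      intro b lo hi
      cases b <;> simp
    have hm : ∀ (b : Bool) (lo hi m : ℕ), m ∈ (if b = true then Finset.Ico lo hi else ∅) →
        lo ≤ m ∧ m < hi := by
      intro b lo hi m hm
      cases b <;> simp at hm
      exact hm
    simp only [U]
    rw [Finset.card_union_of_disjoint, Finset.card_union_of_disjoint,
      Finset.card_union_of_disjoint, Finset.card_union_of_disjoint, Finset.card_singleton,
      hc, hc, hc, hc]
    all_goals
      rw [Finset.disjoint_left]
      intro m hl hr
      have hr' := hm _ _ _ m hr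
      simp only [Finset.mem_union, Finset.mem_singleton] at hl
    · omega
    · rcases hl with hl | hl
      · omega
      · have := hm _ _ _ m hl; omega
    · rcases hl with (hl | hl) | hl
      · omega
      all_goals have := hm _ _ _ m hl; omega
    · rcases hl with ((hl | hl) | hl) | hl
      · omega
      all_goals have := hm _ _ _ m hl; omega
  rw [hcard] at hdvd
  rcases suborbit_arith b1 b2 b3 b4 hdvd with ⟨e1, e2, e3, e4⟩ | ⟨e1, e2, e3, e4⟩
  · left
    rw [e1, e2, e3, e4] at hcard
    obtain ⟨a, ha⟩ := Set.ncard_eq_one.mp hcard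
    rw [ha] at h0 ⊢
    rw [Set.mem_singleton_iff.mp h0]
  · right
    rw [e1, e2, e3, e4] at hcard
    exact Set.eq_of_subset_of_ncard_le (Set.subset_univ _)
      (by rw [Set.ncard_univ, Nat.card_fin, hcard]; norm_num) (Set.toFinite _)

theorem prodPairs_ok :
    ((List.range 8).all fun k =>
      (((prodPairs.getD k ([], [])).1.all fun x => Nat.blt x 8) &&
        ((prodPairs.getD k ([], [])).2.all fun x => Nat.blt x 8) &&
        [0, 1, 21].all fun p =>
          Nat.beq (walk (List.replicate 31 (prodPairs.getD k ([], [])).1).flatten p) p &&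
          Nat.beq (walk (List.replicate 31 (prodPairs.getD k ([], [])).2).flatten p) p &&
          Nat.beq (walk ((prodPairs.getD k ([], [])).1 ++ (prodPairs.getD k ([], [])).2) p)
            (img k p))) = true := by
  decide +kernel

theorem prodw_flatten_replicate {G : Type*} [Group G] (g : ℕ → G) (w : List ℕ) :
    ∀ m, prodw g (List.replicate m w).flatten = prodw g w ^ m := by
  intro m
  induction m with
  | zero => simp [prodw]
  | succ m ih => rw [List.replicate_succ, List.flatten_cons, prodw_append, ih, pow_succ']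

variable [Finite Cfsg.Spor.ON] (hle : Nat.card Cfsg.Spor.ON ≤ 460815505920)
include hle

/-- Words with the same images of the points 0, 1 and 21 are equal. -/
theorem eq_of_walk (u v : List ℕ) (hu : ∀ x ∈ u, x < 8) (hv : ∀ x ∈ v, x < 8)
    (h : ∀ p ∈ [0, 1, 21], walk u p = walk v p) : prodw gen u = prodw gen v := by
  have fix : ∀ p : Fin 122760, p.val ∈ [0, 1, 21] →
      act (prodw gen u * (prodw gen v)⁻¹) p = p := by
    intro p hp
    have e : (act (prodw gen u))⁻¹ p = (act (prodw gen v))⁻¹ p := Fin.ext (by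
      rw [act_word u hu p, act_word v hv p]; exact h _ hp)
    rw [map_mul, map_inv, Equiv.Perm.mul_apply, ← e, Equiv.Perm.inv_def, Equiv.apply_symm_apply]
  exact mul_inv_eq_one.mp
    (eq_one_of_fix hle _ (fix 0 (by decide)) (fix 1 (by decide)) (fix 21 (by decide)))

/-- A nontrivial normal subgroup is everything. -/
theorem normal_eq_top (N : Subgroup Cfsg.Spor.ON) [N.Normal] (hN : N ≠ ⊥) : N = ⊤ := by
  classical
  letI : MulAction Cfsg.Spor.ON (Fin 122760) := MulAction.compHom _ act
  haveI : MulAction.IsPretransitive Cfsg.Spor.ON (Fin 122760) :=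
    MulAction.IsPretransitive.mk fun i j => by
      obtain ⟨a, ha⟩ := exists_act_zero i
      obtain ⟨b, hb⟩ := exists_act_zero j
      refine ⟨b * a⁻¹, ?_⟩
      show act (b * a⁻¹) i = j
      rw [map_mul, map_inv, Equiv.Perm.mul_apply, ← ha, Equiv.Perm.inv_def,
        Equiv.symm_apply_apply, hb]
  have hblock := MulAction.IsBlock.orbit_of_normal (G := Cfsg.Spor.ON) (N := N) (0 : Fin 122760)
  have hdvd := hblock.ncard_dvd_card ⟨0, MulAction.mem_orbit_self _⟩
  rw [Nat.card_fin] at hdvd
  have hinv : ∀ z, act z 0 = 0 → ∀ p ∈ MulAction.orbit N (0 : Fin 122760),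
      act z p ∈ MulAction.orbit N (0 : Fin 122760) := by
    rintro z hz _ ⟨⟨m, hm⟩, rfl⟩
    refine ⟨⟨z * m * z⁻¹, ‹N.Normal›.conj_mem m hm z⟩, ?_⟩
    show act (z * m * z⁻¹) 0 = act z (act m 0)
    rw [map_mul, map_mul, map_inv, Equiv.Perm.mul_apply, Equiv.Perm.mul_apply,
      show (act z)⁻¹ 0 = 0 by rw [Equiv.Perm.inv_eq_iff_eq, hz]]
  rcases eq_singleton_or_univ _ (MulAction.mem_orbit_self _) hinv hdvd with h | h
  · refine absurd ?_ hN
    rw [eq_bot_iff]
    intro m hm
    rw [Subgroup.mem_bot]
    apply act_injective hle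
    rw [map_one]
    refine Equiv.ext fun p => ?_
    obtain ⟨z, hz⟩ := exists_act_zero p
    have hm' : z⁻¹ * m * z ∈ N := by
      have := ‹N.Normal›.conj_mem m hm z⁻¹
      rwa [inv_inv] at this
    have h1 : act (z⁻¹ * m * z) 0 ∈ MulAction.orbit N (0 : Fin 122760) := ⟨⟨_, hm'⟩, rfl⟩
    rw [h, Set.mem_singleton_iff, map_mul, map_mul, map_inv, Equiv.Perm.mul_apply,
      Equiv.Perm.mul_apply, hz, Equiv.Perm.inv_eq_iff_eq, hz] at h1
    exact h1
  have h31N : 31 ∣ Nat.card N := by
    have h' := MulAction.index_stabilizer N (0 : Fin 122760)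
    rw [h, Set.ncard_univ, Nat.card_fin] at h'
    have := Subgroup.index_dvd_card (MulAction.stabilizer N (0 : Fin 122760))
    rw [h'] at this
    exact (show 31 ∣ 122760 by norm_num).trans this
  have hidx : ¬ 31 ∣ Nat.card (Cfsg.Spor.ON ⧸ N) := by
    intro hd
    have hc := Subgroup.card_eq_card_quotient_mul_card_subgroup N
    have h961 : 31 * 31 ∣ Nat.card Cfsg.Spor.ON := hc ▸ Nat.mul_dvd_mul hd h31N
    rw [card_eq hle] at h961
    exact absurd h961 (by norm_num)
  have hpow : ∀ y : Cfsg.Spor.ON, y ^ 31 = 1 → y ∈ N := by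
    intro y hy
    rw [← QuotientGroup.eq_one_iff y, ← orderOf_eq_one_iff]
    rcases (Nat.dvd_prime (show Nat.Prime 31 by norm_num)).mp (orderOf_dvd_of_pow_eq_one
      (show (y : Cfsg.Spor.ON ⧸ N) ^ 31 = 1 by rw [← QuotientGroup.mk_pow, hy]; rfl)) with h | h
    · exact h
    · exact absurd (h ▸ orderOf_dvd_natCard (y : Cfsg.Spor.ON ⧸ N)) hidx
  have hok := prodPairs_ok
  simp only [List.all_eq_true, List.mem_range, Bool.and_eq_true] at hok
  have hgen : ∀ k < 8, gen k ∈ N := by
    intro k hk
    obtain ⟨⟨hu, hv⟩, hp⟩ := hok k hk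
    set u := (prodPairs.getD k ([], [])).1
    set v := (prodPairs.getD k ([], [])).2
    have hu' : ∀ x ∈ u, x < 8 := fun x hx => Nat.le_of_ble_eq_true (hu x hx)
    have hv' : ∀ x ∈ v, x < 8 := fun x hx => Nat.le_of_ble_eq_true (hv x hx)
    have hflat : ∀ w : List ℕ, (∀ x ∈ w, x < 8) → ∀ x ∈ (List.replicate 31 w).flatten, x < 8 := by
      intro w hw x hx
      obtain ⟨l, hl, hxl⟩ := List.mem_flatten.mp hx
      rw [List.eq_of_mem_replicate hl] at hxl
      exact hw x hxl
    have e1 : prodw gen u ^ 31 = 1 := by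
      rw [← prodw_flatten_replicate, ← prodw_nil gen]
      exact eq_of_walk hle _ _ (hflat u hu') (fun x hx => absurd hx List.not_mem_nil)
        fun p hp' => (Nat.eq_of_beq_eq_true (hp p hp').1.1).trans (walk_nil p).symm
    have e2 : prodw gen v ^ 31 = 1 := by
      rw [← prodw_flatten_replicate, ← prodw_nil gen]
      exact eq_of_walk hle _ _ (hflat v hv') (fun x hx => absurd hx List.not_mem_nil)
        fun p hp' => (Nat.eq_of_beq_eq_true (hp p hp').1.2).trans (walk_nil p).symm
    have e3 : prodw gen u * prodw gen v = gen k := by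
      rw [← prodw_append, show gen k = prodw gen [k] by simp [prodw]]
      refine eq_of_walk hle _ _ (fun x hx => ?_) (by simpa using hk)
        fun p hp' => (Nat.eq_of_beq_eq_true (hp p hp').2).trans ?_
      · rcases List.mem_append.mp hx with hx | hx
        exacts [hu' x hx, hv' x hx]
      · rw [walk_cons, walk_nil]
    rw [← e3]
    exact mul_mem (hpow _ e1) (hpow _ e2)
  rw [eq_top_iff, ← PresentedGroup.closure_range_of, Subgroup.closure_le]
  rintro _ ⟨a, rfl⟩
  have := hgen (ix a) (by cases a <;> decide)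
  rwa [gen, letters_ix] at this

/-- The presented group is simple of the expected order. -/
theorem isON : Cfsg.IsON Cfsg.Spor.ON := by
  have hne : Nontrivial Cfsg.Spor.ON := Finite.one_lt_card_iff_nontrivial.mp
    (by rw [card_eq hle]; norm_num)
  exact ⟨{ toNontrivial := hne
           eq_bot_or_eq_top_of_normal := fun N hN =>
             (em (N = ⊥)).imp id fun h => @normal_eq_top _ hle N hN h }, card_eq hle⟩

end CfsgLib.ONanAct
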